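import Mathlib
import Groth.Agent.H75.WI_CH

/-!
# helper74: (CI) Chevalley + irreducibility, image version
-/

set_option autoImplicit false
universe u
open CategoryTheory CategoryTheory.Limits AlgebraicGeometry
open Topology TopologicalSpace

namespace Groth.Agent.H74.WJ.CI

variable (k : Type u) [Field k]

theorem exists_open_inter_subset_image {W X : Scheme.{u}} (p : X ⟶ Spec (CommRingCat.of k))
    (g : W ⟶ X) [LocallyOfFiniteType p] [CompactSpace X] [LocallyOfFiniteType g] [CompactSpace W]
    (E : Set W) (hE : IsLocallyClosed E) (Y : Set X) (hYc : IsClosed Y) (hYi : IsIrreducible Y)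
    (hEY : g.base '' E ⊆ Y) (h : Y ⊆ closure (g.base '' E)) :
    ∃ U : Set X, IsOpen U ∧ (U ∩ Y).Nonempty ∧ U ∩ Y ⊆ g.base '' E := by
  have : IsLocallyNoetherian X := LocallyOfFiniteType.isLocallyNoetherian p
  have : IsNoetherian X := ⟨⟩
  have : IsLocallyNoetherian W := LocallyOfFiniteType.isLocallyNoetherian g
  have : IsNoetherian W := ⟨⟩
  have hopen : ∀ V : Set W, IsOpen V → IsConstructible V := fun V hV =>
    IsRetrocompact.isConstructible hV (fun V' _ _ => NoetherianSpace.isCompact _)
  have hclosed : ∀ C : Set W, IsClosed C → IsConstructible C := by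
    intro C hC
    simpa using (hopen Cᶜ hC.isOpen_compl).compl
  have hEc : IsConstructible E := by
    obtain ⟨V, C, hV, hC, rfl⟩ := hE
    exact (hopen V hV).inter (hclosed C hC)
  have hgE : IsConstructible (g.base '' E) := g.isConstructible_image hEc
  obtain ⟨η, hη⟩ := QuasiSober.sober hYi hYc
  have hcl : closure {η} = Y := hη
  have hηY : η ∈ Y := hcl ▸ subset_closure rfl
  obtain ⟨V, hVo, hηV, hV⟩ := Groth.Agent.H75.WI_CH.aux hgE η
  rcases hV with hV | hV
  · refine ⟨V, hVo, ⟨η, hηV, hηY⟩, ?_⟩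
    rw [← hcl]
    exact hV
  · exfalso
    obtain ⟨c, hcV, hcE⟩ := mem_closure_iff.mp (h hηY) V hVo hηV
    exact hV ⟨hcV, hcl.symm ▸ hEY hcE⟩ hcE

end Groth.Agent.H74.WJ.CI
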