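import Mathlib
import Groth.Agent.H74.WJ.CI
import Groth.Agent.H74.WI.DO
import Groth.Agent.H60.WI_DS
import Groth.Agent.H54.WI_AR
import Groth.Agent.H54.WJ_PI

/-!
# helper74: S14483 assembly — generic radiciality for a self-well-intersecting closed subset
-/

set_option autoImplicit false
set_option linter.style.haveILetI false
universe u
open CategoryTheory CategoryTheory.Limits AlgebraicGeometry

namespace Groth.Agent.H74.WJ

theorem dim_mono {T : Type*} [TopologicalSpace T] {A B : Set T} (h : A ⊆ B) :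
    topologicalKrullDim ↥A ≤ topologicalKrullDim ↥B :=
  (Topology.IsEmbedding.inclusion h).isInducing.topologicalKrullDim_le

theorem main (k : Type u) [Field k] (X S : Scheme.{u})
    (q : S ⟶ Spec (CommRingCat.of k)) (f : X ⟶ S)
    [LocallyOfFiniteType q] [CompactSpace S] [LocallyOfFiniteType f] [CompactSpace X]
    [IsSeparated f]
    (Y : Set X) (hYc : IsClosed Y) (hYi : IsIrreducible Y)
    (hWI : topologicalKrullDim {p : ↥(pullback f f) | pullback.fst f f p ∈ Y ∧
      pullback.snd f f p ∈ Y ∧ p ∉ Set.range (pullback.diagonal f)} + topologicalKrullDim S ≤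
        topologicalKrullDim Y + topologicalKrullDim Y)
    (hYS : topologicalKrullDim Y < topologicalKrullDim S) :
    ∃ V : Set X, IsOpen V ∧ (V ∩ Y).Nonempty ∧ Set.InjOn f.base (V ∩ Y) ∧
      ∀ x ∈ V ∩ Y, (f.residueFieldMap x).hom.IsPurelyInseparable := by
  have : IsLocallyNoetherian S := LocallyOfFiniteType.isLocallyNoetherian q
  have : IsNoetherian S := ⟨⟩
  have : IsLocallyNoetherian X := LocallyOfFiniteType.isLocallyNoetherian f
  have : IsNoetherian X := ⟨⟩
  let pP : pullback f f ⟶ Spec (CommRingCat.of k) := pullback.fst f f ≫ f ≫ q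
  let F : Set ↥(pullback f f) := {p | pullback.fst f f p ∈ Y ∧ pullback.snd f f p ∈ Y}
  let D : Set ↥(pullback f f) := Set.range (pullback.diagonal f)
  let E : Set ↥(pullback f f) := {p : ↥(pullback f f) | pullback.fst f f p ∈ Y ∧
        pullback.snd f f p ∈ Y ∧ p ∉ Set.range (pullback.diagonal f)}
  have hFc : IsClosed F :=
    (hYc.preimage (pullback.fst f f).continuous).inter (hYc.preimage (pullback.snd f f).continuous)
  have hDc : IsClosed D := (pullback.diagonal f).isClosedEmbedding.isClosed_range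
  have hE : E = F ∩ Dᶜ := by
    ext p
    exact ⟨fun ⟨a, b, c⟩ => ⟨⟨a, b⟩, c⟩, fun ⟨⟨a, b⟩, c⟩ => ⟨a, b, c⟩⟩
  have hElc : IsLocallyClosed E := by
    rw [hE]
    exact hFc.isLocallyClosed.inter hDc.isOpen_compl.isLocallyClosed
  have hEY : (pullback.fst f f).base '' E ⊆ Y := by
    rintro _ ⟨p, hp, rfl⟩
    exact hp.1
  have ha0 : (0 : WithBot ℕ∞) ≤ topologicalKrullDim ↥Y := by
    obtain ⟨y, hy⟩ := hYi.nonempty
    haveI : Nonempty (TopologicalSpace.IrreducibleCloseds ↥Y) :=
      ⟨⟨closure {⟨y, hy⟩}, isIrreducible_singleton.closure, isClosed_closure⟩⟩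
    exact Order.krullDim_nonneg
  have hEdim : topologicalKrullDim ↥E < topologicalKrullDim ↥Y :=
    Groth.Agent.H54.WI_AR.arith _ _ _ _ hWI hYS ha0 hYS
  have hnot : ¬ Y ⊆ closure ((pullback.fst f f).base '' E) := by
    intro h
    obtain ⟨U, hU, hne, hsub⟩ :=
      CI.exists_open_inter_subset_image k (f ≫ q) (pullback.fst f f) E hElc Y hYc hYi hEY h
    have h1 := Groth.Agent.H74.WI.DO.dim_open_inter_eq k (f ≫ q) Y hYc hYi U hU hne
    let EU : Set ↥(pullback f f) := E ∩ (pullback.fst f f ⁻¹' U)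
    have hEU : IsLocallyClosed EU :=
      hElc.inter (hU.preimage (pullback.fst f f).continuous).isLocallyClosed
    have hUY : IsLocallyClosed (U ∩ Y) := hU.isLocallyClosed.inter hYc.isLocallyClosed
    have himg : (pullback.fst f f).base '' EU = U ∩ Y := by
      apply Set.Subset.antisymm
      · rintro _ ⟨p, ⟨hp1, hp3⟩, rfl⟩
        exact ⟨hp3, hp1.1⟩
      · rintro y ⟨hyU, hyY⟩
        obtain ⟨p, hpE, hp⟩ := hsub ⟨hyU, hyY⟩
        refine ⟨p, ⟨hpE, ?_⟩, hp⟩
        show pullback.fst f f p ∈ U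
        rw [show pullback.fst f f p = y from hp]; exact hyU
    have h2 : topologicalKrullDim ↥(U ∩ Y) ≤ topologicalKrullDim ↥EU :=
      Groth.Agent.H60.WI_DS.dim_le_of_image_eq k pP (f ≫ q) (pullback.fst f f) rfl EU hEU (U ∩ Y) hUY himg
    have h3 : topologicalKrullDim ↥EU ≤ topologicalKrullDim ↥E := dim_mono Set.inter_subset_left
    have : topologicalKrullDim ↥Y < topologicalKrullDim ↥Y :=
      calc topologicalKrullDim ↥Y = topologicalKrullDim ↥(U ∩ Y) := h1.symm
        _ ≤ topologicalKrullDim ↥EU := h2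
        _ ≤ topologicalKrullDim ↥E := h3
        _ < topologicalKrullDim ↥Y := hEdim
    exact lt_irrefl _ this
  have key : ∀ x ∈ (closure ((pullback.fst f f).base '' E))ᶜ ∩ Y, ∀ p : ↥(pullback f f),
      pullback.fst f f p = x → pullback.snd f f p ∈ Y → p ∈ Set.range (pullback.diagonal f) := by
    rintro x ⟨hxV, hxY⟩ p hp1 hp2
    by_contra hp3
    apply hxV
    apply subset_closure
    refine ⟨p, ⟨?_, hp2, hp3⟩, hp1⟩
    show pullback.fst f f p ∈ Y
    rw [hp1]; exact hxY
  refine ⟨(closure ((pullback.fst f f).base '' E))ᶜ, isClosed_closure.isOpen_compl, ?_, ?_, ?_⟩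
  · by_contra hemp
    apply hnot
    intro y hy
    by_contra hy'
    exact hemp ⟨y, hy', hy⟩
  · intro x hx x' hx' hxx'
    obtain ⟨p, hp1, hp2⟩ := Scheme.Pullback.exists_preimage_pullback (f := f) (g := f) x x' hxx'
    obtain ⟨w, hw⟩ := key x hx p hp1 (by rw [hp2]; exact hx'.2)
    have e1 : pullback.fst f f ((pullback.diagonal f) w) = w := by
      rw [← Scheme.Hom.comp_apply, pullback.diagonal_fst]; rfl
    have e2 : pullback.snd f f ((pullback.diagonal f) w) = w := by
      rw [← Scheme.Hom.comp_apply, pullback.diagonal_snd]; rfl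
    rw [← hp1, ← hp2, ← hw, e1, e2]
  · intro x hx
    apply Groth.Agent.H54.WJ_PI.isPurelyInseparable_of_forall_mem_range_diagonal f x
    intro p hp1 hp2
    exact key x hx p hp1 (by rw [hp2]; exact hx.2)

end Groth.Agent.H74.WJ
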